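import Groth.Agent.Flat2H.FamDict
import Groth.Agent.Fdesc.LocGenPullback
import Groth.Agent.Desc.DimMap
import Groth.Agent.VarietyB.DimSch
import Mathlib.AlgebraicGeometry.ZariskisMainTheorem
import Mathlib.AlgebraicGeometry.QuasiAffine

/-!
# Ample pullbacks and finiteness

* `isAmple_pullback`: pullback of an ample invertible module along an affine morphism is ample.
* `isFinite_of_isQuasiAffine`: proper with quasi-affine source over an affine base is finite.
* `isAmple_structureModule_fiber`: if `f^* L` is ample then `O` is ample on all fibres of `f`.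
* `surjective_of_isFinite`: a finite endomorphism of an irreducible scheme locally of finite type over a field
  is surjective.
-/

set_option autoImplicit false
universe u

open CategoryTheory CategoryTheory.Limits AlgebraicGeometry TopologicalSpace Opposite

namespace Groth.Agent.Sga5.AmpleFib

open Groth.Agent.Fdesc.LocGen Groth.Agent.Flat2H.FamExt Groth.Agent.Flat2H.FamDict

theorem app_ores {X Y : Scheme.{u}} (f : Y ⟶ X) {U V : X.Opens} (h : V ≤ U) (a : Γ(X, U)) :
    f.app V (ores h a) = ores (show f ⁻¹ᵁ V ≤ f ⁻¹ᵁ U from fun _ hx ↦ h hx) (f.app U a) :=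
  congrArg (fun φ => φ.hom a) (f.naturality (homOfLE h).op)

/-- Pullback of an ample invertible module along an affine morphism is ample. -/
theorem isAmple_pullback {X Y : Scheme.{u}} (f : Y ⟶ X) [IsAffineHom f] {L : X.Modules}
    (hL : CohB1.IsAmple L) : CohB1.IsAmple ((Scheme.Modules.pullback f).obj L) := by
  have hcX : CompactSpace X := hL.2.1
  obtain ⟨n, W, g, -, hW⟩ := exists_trivs hL.1 (fun _ ↦ True) (fun U x hx ↦ ⟨U, hx, le_rfl, trivial⟩)
  rw [(hW.pullback f).isAmple_iff]
  obtain ⟨hc, h⟩ := hW.isAmple_iff.1 hL
  refine ⟨QuasiCompact.compactSpace_of_compactSpace f, fun y ↦ ?_⟩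
  obtain ⟨m, b, hb, hxb, haff⟩ := h (f.base y)
  have hpre : (⨆ j, Y.basicOpen (f.app (W j) (b j))) = f ⁻¹ᵁ (⨆ j, X.basicOpen (b j)) := by
    rw [Scheme.Hom.preimage_iSup]
    simp only [Scheme.preimage_basicOpen]
  refine ⟨m, fun j ↦ f.app (W j) (b j), ?_, ?_, ?_⟩
  · intro i j
    have h1 := congrArg (f.app (W i ⊓ W j)) (hb i j)
    rw [map_mul, map_pow, app_ores, app_ores] at h1
    exact h1
  · rw [hpre]
    exact hxb
  · rw [hpre]
    exact haff.preimage f

/-- A module with a global generator is isomorphic to the structure sheaf. -/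
theorem nonempty_iso_of_isGen {X : Scheme.{u}} {M : X.Modules} {e : Γ(M, ⊤)} (he : IsGen e) :
    Nonempty (Coh.structureModule X ≅ M) := by
  have h1 : IsIso (homOf e) := by
    rw [isIso_iff_isGen]
    simpa using he
  exact ⟨asIso (homOf e)⟩

/-- An invertible module pulls back to the trivial module along any morphism that factors
topologically through one point. -/
theorem nonempty_iso_pullback_of_const {X Y : Scheme.{u}} (f : Y ⟶ X) (x : X)
    (hf : ∀ y : Y, f.base y = x) {L : X.Modules} (hL : PicF.IsInvertible L) :
    Nonempty (Coh.structureModule Y ≅ (Scheme.Modules.pullback f).obj L) := by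
  rw [isInvertible_iff] at hL
  obtain ⟨U, e, hxU, he⟩ := hL x
  have hU : f ⁻¹ᵁ U = ⊤ := by
    rw [eq_top_iff]
    intro y _
    change f.base y ∈ U
    rw [hf y]
    exact hxU
  have h1 := he.pullSec f
  have h2 : IsGen (res _ hU.ge (pullSec f e)) := h1.res hU.ge
  exact nonempty_iso_of_isGen h2

/-- proper with quasi-affine source over an affine base is finite. -/
theorem isFinite_of_isQuasiAffine {X S : Scheme.{u}} (f : X ⟶ S) [IsProper f] [IsAffine S]
    [X.IsQuasiAffine] : IsFinite f := by
  have h1 : IsProper X.toSpecΓ := by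
    have h2 : X.toSpecΓ ≫ Spec.map (f.appTop) ≫ S.isoSpec.inv = f := by
      rw [← Scheme.toSpecΓ_naturality_assoc]
      simp
    have h3 : IsProper (X.toSpecΓ ≫ Spec.map (f.appTop) ≫ S.isoSpec.inv) := by
      rw [h2]; infer_instance
    exact IsProper.of_comp X.toSpecΓ (Spec.map (f.appTop) ≫ S.isoSpec.inv)
  have h2 : IsClosedImmersion X.toSpecΓ := by
    rw [IsClosedImmersion.iff_isProper_and_mono]
    exact ⟨h1, inferInstance⟩
  have h3 : IsAffine X := isAffine_of_isAffineHom X.toSpecΓ
  have h4 : IsAffineHom f := inferInstance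
  rw [IsFinite.iff_isProper_and_isAffineHom]
  exact ⟨inferInstance, inferInstance⟩

/-- If `f^* L` is ample then the structure sheaf is ample on the fibres of `f`. -/
theorem isAmple_structureModule_fiber {X Y : Scheme.{u}} [X.IsSeparated] [Y.IsSeparated] (f : X ⟶ Y)
    {L : Y.Modules} (hL : PicF.IsInvertible L)
    (h : CohB1.IsAmple ((Scheme.Modules.pullback f).obj L)) (y : Y) :
    CohB1.IsAmple (Coh.structureModule (f.fiber y)) := by
  have h0 : IsAffineHom (Y.fromSpecResidueField y) := by
    have : IsAffineHom (Y.fromSpecResidueField y ≫ terminal.from Y) := by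
      infer_instance
    exact IsAffineHom.of_comp _ (terminal.from Y)
  have h1 : IsAffineHom (f.fiberι y) := by
    exact MorphismProperty.pullback_fst (P := @IsAffineHom) _ _ h0
  have h2 := isAmple_pullback (f.fiberι y) h
  obtain ⟨e⟩ := nonempty_iso_pullback_of_const (f.fiberι y ≫ f) y (fun z ↦ by
    have h3 : f.fiberι y z ∈ Set.range (f.fiberι y) := ⟨z, rfl⟩
    rw [f.range_fiberι y] at h3
    exact h3) hL
  refine isAmple_of_iso ?_ h2
  exact (Scheme.Modules.pullbackComp (f.fiberι y) f).app L ≪≫ e.symm

/-- **Finiteness criterion**: `f` proper and `f^* L` ample for some invertible `L` implies `f` finite. -/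
theorem isFinite_of_isAmple_pullback (hqa : ∀ Z : Scheme.{u}, CompactSpace Z → Z.IsSeparated →
      CohB1.IsAmple (Coh.structureModule Z) → Z.IsQuasiAffine)
    {X Y : Scheme.{u}} [X.IsSeparated] [Y.IsSeparated] (f : X ⟶ Y) [IsProper f]
    {L : Y.Modules} (hL : PicF.IsInvertible L)
    (h : CohB1.IsAmple ((Scheme.Modules.pullback f).obj L)) : IsFinite f := by
  have h1 : LocallyQuasiFinite f := by
    apply LocallyQuasiFinite.of_fiberToSpecResidueField
    intro y
    have h2 := isAmple_structureModule_fiber f hL h y
    have h3 : IsProper (f.fiberToSpecResidueField y) :=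
      MorphismProperty.pullback_snd (P := @IsProper) _ _ inferInstance
    have h4 : CompactSpace (f.fiber y) := h2.2.1
    have h5 : (f.fiber y).IsSeparated := by
      constructor
      have h6 : IsSeparated (f.fiberToSpecResidueField y ≫ terminal.from _) := inferInstance
      rwa [Subsingleton.elim (terminal.from (f.fiber y))
        (f.fiberToSpecResidueField y ≫ terminal.from _)]
    have h6 : (f.fiber y).IsQuasiAffine := hqa _ h4 h5 h2
    have h7 : IsFinite (f.fiberToSpecResidueField y) := isFinite_of_isQuasiAffine _
    infer_instance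
  exact IsFinite.of_isProper_of_locallyQuasiFinite f

section

attribute [local instance] specializationOrder

/-- A continuous self-map of an irreducible sober space of finite dimension which is closed and has no
proper specialisations in its fibres is surjective. -/
theorem surjective_of_fibres {T : Type*} [TopologicalSpace T] [QuasiSober T] [T0Space T]
    [IrreducibleSpace T] (d : ℕ) (hd : topologicalKrullDim T = d)
    (f : T → T) (hf : Continuous f) (hcl : IsClosed (Set.range f))
    (h : ∀ x y : T, x ⤳ y → f x = f y → x = y) : Function.Surjective f := by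
  rw [Groth.Agent.Desc.DimMap.topologicalKrullDim_eq] at hd
  obtain ⟨l, hl⟩ := Order.le_krullDim_iff.mp hd.ge
  have hmono : StrictMono f := by
    intro x y hxy
    have h1 : y ⤳ x := hxy.le
    refine lt_of_le_of_ne (h1.map hf) ?_
    intro h2
    exact hxy.ne (h y x h1 h2.symm).symm
  by_contra hcon
  have hη : f (genericPoint T) ≠ genericPoint T := by
    intro h0
    apply hcon
    rw [← Set.range_eq_univ, Set.eq_univ_iff_forall]
    intro x
    have h1 : genericPoint T ⤳ x := genericPoint_specializes x
    exact h1.mem_closed hcl ⟨_, h0⟩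
  have hlt : ∀ x : T, f x < genericPoint T := by
    intro x
    have h1 : f x ≤ f (genericPoint T) := (genericPoint_specializes x).map hf
    refine lt_of_le_of_lt h1 (lt_of_le_of_ne (genericPoint_specializes _) hη)
  let l' : LTSeries T := (l.map f hmono).snoc (genericPoint T) (hlt _)
  have hl' : l'.length = d + 1 := by
    simp [l', hl]
  have h1 := Order.LTSeries.length_le_krullDim l'
  rw [hd, hl'] at h1
  have h2 : d + 1 ≤ d := by exact_mod_cast h1
  omega

end

/-- A finite endomorphism of an irreducible scheme locally of finite type over a field is surjective. -/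
theorem surjective_of_isFinite (K : Type u) [Field K] {X : Scheme.{u}} (p : X ⟶ Spec (CommRingCat.of K))
    [LocallyOfFiniteType p] [IrreducibleSpace X] (f : X ⟶ X) [IsFinite f] : Surjective f := by
  constructor
  let _ : X.Over (Spec (CommRingCat.of K)) := ⟨p⟩
  have : LocallyOfFiniteType (X ↘ Spec (CommRingCat.of K)) := inferInstanceAs (LocallyOfFiniteType p)
  refine surjective_of_fibres _ (Groth.Agent.VarietyB.DimSch.topologicalKrullDim_eq_trd K) f.base
    f.continuous f.isClosedMap.isClosed_range ?_
  intro x y hxy hf
  have h1 := f.isDiscrete_preimage_singleton (f.base y)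
  have h2 : DiscreteTopology (f.base ⁻¹' {f.base y}) := h1.to_subtype
  let x' : (f.base ⁻¹' {f.base y}) := ⟨x, hf⟩
  let y' : (f.base ⁻¹' {f.base y}) := ⟨y, rfl⟩
  have h3 : x' ⤳ y' := Topology.IsInducing.subtypeVal.specializes_iff.mp hxy
  exact congrArg Subtype.val h3.eq

end Groth.Agent.Sga5.AmpleFib
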